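import Mathlib

/-!
# Groups with an abelian normal subgroup of prime index

The derived subgroup is the image of the commutation map of an outside element.
-/

namespace CfsgLib.PGroupExtra

open scoped commutatorElement

variable {G : Type*} [Group G]

theorem eq_top_of_prime_index {A B : Subgroup G} (hA : A.index.Prime) (hAB : A ≤ B) {x : G}
    (hxB : x ∈ B) (hxA : x ∉ A) : B = ⊤ := by
  rcases (Nat.dvd_prime hA).mp (Subgroup.index_dvd_of_le hAB) with h | h
  · exact Subgroup.index_eq_one.mp h
  · exfalso
    have h2 := Subgroup.relIndex_mul_index hAB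
    rw [h] at h2
    have h3 : A.relIndex B = 1 := by
      have := hA.pos
      nlinarith
    exact hxA (Subgroup.relIndex_eq_one.mp h3 hxB)

/-- `|G'| * |C_A(x)| = |A|` for an abelian normal subgroup `A` of prime index and `x ∉ A`. -/
theorem card_commutator_mul_card_centralizer [Finite G] (A : Subgroup G) [A.Normal]
    (hab : ∀ a ∈ A, ∀ b ∈ A, a * b = b * a) (hA : A.index.Prime) (x : G) (hx : x ∉ A) :
    Nat.card (commutator G) * Nat.card (A ⊓ Subgroup.centralizer ({x} : Set G) : Subgroup G)
      = Nat.card A := by
  have hmem : ∀ a ∈ A, x * a * x⁻¹ * a⁻¹ ∈ A := fun a ha =>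
    A.mul_mem (Subgroup.Normal.conj_mem inferInstance a ha x) (A.inv_mem ha)
  let f : A →* G :=
    { toFun := fun a => x * (a : G) * x⁻¹ * (a : G)⁻¹
      map_one' := by simp
      map_mul' := by
        intro a b
        have h1 : (a : G)⁻¹ * (x * b * x⁻¹ * (b : G)⁻¹) = (x * b * x⁻¹ * (b : G)⁻¹) * (a : G)⁻¹ :=
          hab _ (A.inv_mem a.2) _ (hmem b b.2)
        calc x * ((a : G) * b) * x⁻¹ * ((a : G) * b)⁻¹
            = x * a * x⁻¹ * ((x * b * x⁻¹ * (b : G)⁻¹) * (a : G)⁻¹) := by group
          _ = x * a * x⁻¹ * ((a : G)⁻¹ * (x * b * x⁻¹ * (b : G)⁻¹)) := by rw [h1]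
          _ = x * (a : G) * x⁻¹ * (a : G)⁻¹ * (x * b * x⁻¹ * (b : G)⁻¹) := by group }
  have hfA : f.range ≤ A := by
    rintro _ ⟨a, rfl⟩
    exact hmem a a.2
  have hRcomm : f.range ≤ commutator G := by
    rintro _ ⟨a, rfl⟩
    exact Subgroup.commutator_mem_commutator (Subgroup.mem_top x) (Subgroup.mem_top (a : G))
  have hnorm : f.range.Normal := by
    rw [← Subgroup.normalizer_eq_top_iff]
    have hfix : ∀ a ∈ A, ∀ r ∈ f.range, a * r * a⁻¹ = r := by
      intro a ha r hr
      rw [hab a ha r (hfA hr)]
      simp
    have hxn : x ∈ Subgroup.normalizer (f.range : Set G) := by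
      have hmap : f.range.map (MulAut.conj x).toMonoidHom ≤ f.range := by
        rintro _ ⟨r, ⟨a, rfl⟩, rfl⟩
        refine ⟨⟨x * a * x⁻¹, Subgroup.Normal.conj_mem inferInstance _ a.2 x⟩, ?_⟩
        simp only [f, MonoidHom.coe_mk, OneHom.coe_mk, MulEquiv.coe_toMonoidHom,
          MulAut.conj_apply]
        group
      have heq : f.range.map (MulAut.conj x).toMonoidHom = f.range := by
        apply Subgroup.eq_of_le_of_card_ge hmap
        rw [Subgroup.card_map_of_injective (MulAut.conj x).injective]
      rw [Subgroup.mem_normalizer_iff]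
      intro r
      constructor
      · intro hr
        exact hmap ⟨r, hr, rfl⟩
      · intro hr
        rw [← heq] at hr
        obtain ⟨s, hs, he⟩ := hr
        have : s = r := (MulAut.conj x).injective he
        exact this ▸ hs
    refine eq_top_of_prime_index hA ?_ hxn hx
    intro a ha
    rw [Subgroup.mem_normalizer_iff]
    intro r
    constructor
    · intro hr
      show a * r * a⁻¹ ∈ f.range
      rw [hfix a ha r hr]; exact hr
    · intro hr
      have : r ∈ f.range := by
        have h2 := hfix a⁻¹ (A.inv_mem ha) _ hr
        have : r = a * r * a⁻¹ := by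
          rw [← h2]; group
        rw [this]; exact hr
      exact this
  let q := QuotientGroup.mk' f.range
  have hxa : ∀ a ∈ A, q x * q a = q a * q x := by
    intro a ha
    have : q (x * a * x⁻¹ * a⁻¹) = 1 :=
      (QuotientGroup.eq_one_iff _).mpr ⟨⟨a, ha⟩, rfl⟩
    rw [← mul_inv_eq_one, ← this]
    simp only [map_mul, map_inv]
    group
  have hxc : ∀ g, q x * q g = q g * q x := by
    intro g
    have htop : (Subgroup.centralizer ({q x} : Set (G ⧸ f.range))).comap q = ⊤ := by
      refine eq_top_of_prime_index hA (fun a ha => ?_) (x := x) ?_ hx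
      · rw [Subgroup.mem_comap, Subgroup.mem_centralizer_singleton_iff]
        exact (hxa a ha).symm
      · rw [Subgroup.mem_comap, Subgroup.mem_centralizer_singleton_iff]
    have := htop ▸ Subgroup.mem_top g
    rw [Subgroup.mem_comap, Subgroup.mem_centralizer_singleton_iff] at this
    exact this.symm
  have hall : ∀ g h, q g * q h = q h * q g := by
    have hA' : ∀ a ∈ A, ∀ h, q a * q h = q h * q a := by
      intro a ha h
      have htop : (Subgroup.centralizer ({q a} : Set (G ⧸ f.range))).comap q = ⊤ := by
        refine eq_top_of_prime_index hA (fun b hb => ?_) (x := x) ?_ hx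
        · rw [Subgroup.mem_comap, Subgroup.mem_centralizer_singleton_iff, ← map_mul, ← map_mul,
            hab b hb a ha]
        · rw [Subgroup.mem_comap, Subgroup.mem_centralizer_singleton_iff]
          exact hxc a
      have := htop ▸ Subgroup.mem_top h
      rw [Subgroup.mem_comap, Subgroup.mem_centralizer_singleton_iff] at this
      exact this.symm
    intro g h
    have htop : (Subgroup.centralizer ({q g} : Set (G ⧸ f.range))).comap q = ⊤ := by
      refine eq_top_of_prime_index hA (fun b hb => ?_) (x := x) ?_ hx
      · rw [Subgroup.mem_comap, Subgroup.mem_centralizer_singleton_iff]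
        exact hA' b hb g
      · rw [Subgroup.mem_comap, Subgroup.mem_centralizer_singleton_iff]
        exact hxc g
    have := htop ▸ Subgroup.mem_top h
    rw [Subgroup.mem_comap, Subgroup.mem_centralizer_singleton_iff] at this
    exact this.symm
  have heq : commutator G = f.range := by
    refine le_antisymm ?_ hRcomm
    rw [commutator_def, Subgroup.commutator_le]
    intro g _ h _
    rw [← QuotientGroup.eq_one_iff]
    change q ⁅g, h⁆ = 1
    rw [map_commutatorElement, commutatorElement_eq_one_iff_commute]
    exact hall g h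
  have hker : f.ker = (Subgroup.centralizer ({x} : Set G)).subgroupOf A := by
    ext a
    rw [Subgroup.mem_subgroupOf, Subgroup.mem_centralizer_singleton_iff, MonoidHom.mem_ker]
    show x * (a : G) * x⁻¹ * (a : G)⁻¹ = 1 ↔ _
    rw [mul_inv_eq_one, mul_inv_eq_iff_eq_mul, eq_comm]
  have h1 : Nat.card f.ker = Nat.card (A ⊓ Subgroup.centralizer ({x} : Set G) : Subgroup G) := by
    rw [hker, ← Subgroup.inf_subgroupOf_left]
    exact Nat.card_congr (Subgroup.subgroupOfEquivOfLe inf_le_left).toEquiv
  have h2 : Nat.card f.range = Nat.card (A ⧸ f.ker) :=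
    (Nat.card_congr (QuotientGroup.quotientKerEquivRange f).toEquiv).symm
  rw [heq, ← h1, h2, ← Subgroup.card_eq_card_quotient_mul_card_subgroup]

/-- The centre is the centralizer in `A` of an outside element, when `G` is not abelian. -/
theorem center_eq_inf_centralizer (A : Subgroup G)
    (hab : ∀ a ∈ A, ∀ b ∈ A, a * b = b * a) (hA : A.index.Prime) (x : G) (hx : x ∉ A)
    (hna : ¬ Subgroup.center G = ⊤) :
    Subgroup.center G = A ⊓ Subgroup.centralizer ({x} : Set G) := by
  apply le_antisymm
  · intro z hz
    refine ⟨?_, ?_⟩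
    · by_contra hzA
      apply hna
      rw [eq_top_iff]
      intro g _
      rw [Subgroup.mem_center_iff]
      intro h
      have hcA : ∀ a ∈ A, ∀ k : G, k * a = a * k := by
        intro a ha k
        have : Subgroup.centralizer ({a} : Set G) = ⊤ := by
          refine eq_top_of_prime_index hA (fun b hb => ?_) (x := z) ?_ hzA
          · rw [Subgroup.mem_centralizer_singleton_iff]; exact hab b hb a ha
          · rw [Subgroup.mem_centralizer_singleton_iff]
            exact (Subgroup.mem_center_iff.mp hz a).symm
        have h' := this ▸ Subgroup.mem_top k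
        rwa [Subgroup.mem_centralizer_singleton_iff] at h'
      have : Subgroup.centralizer ({g} : Set G) = ⊤ := by
        refine eq_top_of_prime_index hA (fun b hb => ?_) (x := z) ?_ hzA
        · rw [Subgroup.mem_centralizer_singleton_iff]; exact (hcA b hb g).symm
        · rw [Subgroup.mem_centralizer_singleton_iff]
          exact (Subgroup.mem_center_iff.mp hz g).symm
      have h' := this ▸ Subgroup.mem_top h
      rw [Subgroup.mem_centralizer_singleton_iff] at h'
      exact h'
    · show z ∈ Subgroup.centralizer ({x} : Set G)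
      rw [Subgroup.mem_centralizer_singleton_iff]
      exact (Subgroup.mem_center_iff.mp hz x).symm
  · rintro z ⟨hzA, hzx⟩
    rw [Subgroup.mem_center_iff]
    intro g
    have : Subgroup.centralizer ({z} : Set G) = ⊤ := by
      refine eq_top_of_prime_index hA (fun b hb => ?_) (x := x) ?_ hx
      · rw [Subgroup.mem_centralizer_singleton_iff]; exact hab b hb z hzA
      · rw [Subgroup.mem_centralizer_singleton_iff]
        exact (Subgroup.mem_centralizer_singleton_iff.mp hzx).symm
    have h' := this ▸ Subgroup.mem_top g
    rwa [Subgroup.mem_centralizer_singleton_iff] at h'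

end CfsgLib.PGroupExtra
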