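import Cfsg.Agent.Lib.PGroupExtra.AbelianPrimeIndex

/-!
# Groups of order p ^ 4
-/

namespace CfsgLib.PGroupExtra

open scoped commutatorElement

variable {P : Type*} [Group P] [Finite P] {p : ℕ} [Fact p.Prime]

/-- A normal subgroup of order `p` in a finite `p`-group is central. -/
theorem le_center_of_card_prime (hP : IsPGroup p P) (N : Subgroup P) [N.Normal]
    (hN : Nat.card N = p) : N ≤ Subgroup.center P := by
  classical
  have hprime : p.Prime := Fact.out
  have h1 : Nat.card (Subgroup.center P ⊓ N : Subgroup P) ∣ p := by
    rw [← hN]; exact Subgroup.card_dvd_of_le inf_le_right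
  rcases (Nat.dvd_prime hprime).mp h1 with h | h
  · exfalso
    have hfix : Subgroup.center P ⊓ N = ⊥ := Subgroup.eq_bot_of_card_eq _ h
    -- conjugation action of P on N
    let _ : MulAction (ConjAct P) N := inferInstance
    have hCP : IsPGroup p (ConjAct P) := hP
    have hdvd : p ∣ Nat.card N := hN ▸ dvd_rfl
    obtain ⟨b, hb, hb1⟩ := hCP.exists_fixed_point_of_prime_dvd_card_of_fixed_point N hdvd
      (a := (1 : N)) (fun g => Subtype.ext (by simp [ConjAct.Subgroup.val_conj_smul]))
    apply hb1
    have : (b : P) ∈ Subgroup.center P ⊓ N := by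
      refine ⟨?_, b.2⟩
      show (b : P) ∈ Subgroup.center P
      rw [Subgroup.mem_center_iff]
      intro g
      have := congrArg Subtype.val (hb (ConjAct.toConjAct g))
      rw [ConjAct.Subgroup.val_conj_smul, ConjAct.smul_def, ConjAct.ofConjAct_toConjAct,
        mul_inv_eq_iff_eq_mul] at this
      exact this
    rw [hfix, Subgroup.mem_bot] at this
    exact Subtype.ext (by simpa using this.symm)
  · have : Subgroup.center P ⊓ N = N :=
      Subgroup.eq_of_le_of_card_ge inf_le_right (by rw [h, hN])
    rw [← this]; exact inf_le_left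

theorem isMulCommutative_of_center_index {G : Type*} [Group G] [Finite G]
    (h : (Subgroup.center G).index = 1 ∨ (Subgroup.center G).index.Prime) :
    Subgroup.center G = ⊤ := by
  rcases h with h | h
  · exact Subgroup.index_eq_one.mp h
  · have : Fact (Subgroup.center G).index.Prime := ⟨h⟩
    have hcyc : IsCyclic (G ⧸ Subgroup.center G) :=
      isCyclic_of_prime_card (p := (Subgroup.center G).index) rfl
    rw [eq_top_iff]
    intro g _
    rw [Subgroup.mem_center_iff]
    intro k
    exact commutative_of_cyclic_center_quotient (QuotientGroup.mk' (Subgroup.center G))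
      (by rw [QuotientGroup.ker_mk']) k g

theorem card_center_ne_cube (hP : Nat.card P = p ^ 4) :
    Subgroup.center P = ⊤ ∨ Nat.card (Subgroup.center P) = p ∨
      Nat.card (Subgroup.center P) = p ^ 2 := by
  have hprime : p.Prime := Fact.out
  have hPG : IsPGroup p P := IsPGroup.of_card hP
  obtain ⟨k, hk, hkc⟩ := (Nat.dvd_prime_pow hprime).mp
    (hP ▸ (Subgroup.center P).card_subgroup_dvd_card)
  have : Nontrivial P := Finite.one_lt_card_iff_nontrivial.mp (hP ▸ Nat.one_lt_pow (by norm_num) hprime.one_lt)
  have hne := hPG.bot_lt_center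
  have hidx := Subgroup.index_mul_card (Subgroup.center P)
  rw [hP, hkc] at hidx
  interval_cases k
  · exfalso
    exact hne.ne' (Subgroup.eq_bot_of_card_eq _ (by simpa using hkc))
  · right; left; simpa using hkc
  · right; right; exact hkc
  · left
    refine isMulCommutative_of_center_index (Or.inr ?_)
    have : (Subgroup.center P).index = p := by
      have h3 : 0 < p ^ 3 := pow_pos hprime.pos 3
      apply Nat.eq_of_mul_eq_mul_right h3
      rw [hidx]; ring
    rw [this]; exact hprime
  · left
    exact Subgroup.eq_top_of_card_eq _ (hkc.trans hP.symm)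

/-- An abelian subgroup of index `p`, given either a large centre or `|P'| = p`. -/
theorem exists_abelian_index_prime (hP : Nat.card P = p ^ 4) (hna : Subgroup.center P ≠ ⊤)
    (h : Nat.card (Subgroup.center P) = p ^ 2 ∨ Nat.card (commutator P) = p) :
    ∃ A : Subgroup P, A.Normal ∧ (∀ a ∈ A, ∀ b ∈ A, a * b = b * a) ∧ A.index = p := by
  classical
  have hprime : p.Prime := Fact.out
  have hPG : IsPGroup p P := IsPGroup.of_card hP
  obtain ⟨x, hx⟩ : ∃ x, x ∉ Subgroup.center P := by
    by_contra hh
    push Not at hh
    exact hna (eq_top_iff.mpr fun x _ => hh x)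
  have : Fact (1 < p) := ⟨hprime.one_lt⟩
  -- a subgroup between
  have hgen : ∀ K : Subgroup P, Subgroup.center P ≤ K → x ∈ K →
      p * Nat.card (Subgroup.center P) ∣ Nat.card K := by
    intro K hZK hxK
    obtain ⟨i, hi, hiK⟩ := (Nat.dvd_prime_pow hprime).mp (hP ▸ K.card_subgroup_dvd_card)
    obtain ⟨j, hj, hjZ⟩ := (Nat.dvd_prime_pow hprime).mp
      (hP ▸ (Subgroup.center P).card_subgroup_dvd_card)
    have hlt : Nat.card (Subgroup.center P) < Nat.card K := by
      refine lt_of_le_of_ne (Subgroup.card_le_of_le hZK) (fun he => hx ?_)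
      rw [Subgroup.eq_of_le_of_card_ge hZK he.ge]; exact hxK
    rw [hiK, hjZ] at hlt ⊢
    rw [← pow_succ']
    exact pow_dvd_pow p ((Nat.pow_lt_pow_iff_right hprime.one_lt).mp hlt)
  rcases h with h | h
  · -- Z * <x>
    set A := Subgroup.center P ⊔ Subgroup.zpowers x with hA
    have hxA : x ∈ A := le_sup_right (α := Subgroup P) (Subgroup.mem_zpowers x)
    have hab : ∀ a ∈ A, ∀ b ∈ A, a * b = b * a := by
      have hle : A ≤ Subgroup.centralizer (A : Set P) := by
        rw [Subgroup.le_centralizer_iff] -- reduce both generators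
        refine sup_le (fun z hz => ?_) ?_
        · rw [Subgroup.mem_centralizer_iff]
          intro g _
          exact Subgroup.mem_center_iff.mp hz g
        · rw [Subgroup.zpowers_le, Subgroup.mem_centralizer_iff]
          intro g hg
          have : A ≤ Subgroup.centralizer ({x} : Set P) := by
            refine sup_le (fun z hz => ?_) ?_
            · rw [Subgroup.mem_centralizer_singleton_iff]
              exact (Subgroup.mem_center_iff.mp hz x).symm
            · rw [Subgroup.zpowers_le, Subgroup.mem_centralizer_singleton_iff]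
          exact Subgroup.mem_centralizer_singleton_iff.mp (this hg)
      intro a ha b hb
      exact (Subgroup.mem_centralizer_iff.mp (hle ha) b hb).symm
    have hne : A ≠ ⊤ := by
      intro htop
      apply hna
      rw [eq_top_iff]
      intro g _
      rw [Subgroup.mem_center_iff]
      intro k
      exact hab k (htop ▸ Subgroup.mem_top k) g (htop ▸ Subgroup.mem_top g)
    have h1 := hgen A le_sup_left hxA
    rw [h, ← pow_succ'] at h1
    obtain ⟨i, hi, hiA⟩ := (Nat.dvd_prime_pow hprime).mp (hP ▸ A.card_subgroup_dvd_card)
    rw [hiA] at h1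
    have hi3 : 3 ≤ i := (Nat.pow_dvd_pow_iff_le_right hprime.one_lt).mp h1
    have hi4 : i ≠ 4 := by
      rintro rfl
      exact hne (Subgroup.eq_top_of_card_eq _ (hiA.trans hP.symm))
    obtain rfl : i = 3 := by omega
    have hidx : A.index = p := by
      have h2 := Subgroup.index_mul_card A
      rw [hiA, hP] at h2
      apply Nat.eq_of_mul_eq_mul_right (pow_pos hprime.pos 3)
      rw [h2]; ring
    refine ⟨A, ?_, hab, hidx⟩
    apply Subgroup.normal_of_index_eq_minFac_card
    rw [hidx, hP, Nat.pow_minFac (by norm_num), hprime.minFac_eq]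
  · -- centralizer of x
    have hcen : commutator P ≤ Subgroup.center P := le_center_of_card_prime hPG _ h
    let f : P →* commutator P :=
      { toFun := fun g => ⟨x * g * x⁻¹ * g⁻¹, Subgroup.commutator_mem_commutator
          (Subgroup.mem_top x) (Subgroup.mem_top g)⟩
        map_one' := by simp
        map_mul' := by
          intro a b
          apply Subtype.ext
          simp only [Subgroup.coe_mul]
          have hc := Subgroup.mem_center_iff.mp (hcen (Subgroup.commutator_mem_commutator
            (Subgroup.mem_top x) (Subgroup.mem_top b))) a⁻¹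
          simp only [commutatorElement_def] at hc
          calc x * (a * b) * x⁻¹ * (a * b)⁻¹
              = x * a * x⁻¹ * (x * b * x⁻¹ * b⁻¹ * a⁻¹) := by group
            _ = x * a * x⁻¹ * (a⁻¹ * (x * b * x⁻¹ * b⁻¹)) := by rw [hc]
            _ = x * a * x⁻¹ * a⁻¹ * (x * b * x⁻¹ * b⁻¹) := by group }
    have hker : f.ker = Subgroup.centralizer ({x} : Set P) := by
      ext g
      rw [Subgroup.mem_centralizer_singleton_iff, MonoidHom.mem_ker, Subtype.ext_iff]
      show x * g * x⁻¹ * g⁻¹ = 1 ↔ _
      rw [mul_inv_eq_one, mul_inv_eq_iff_eq_mul, eq_comm]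
    set A := Subgroup.centralizer ({x} : Set P) with hA
    have hdvd : A.index ∣ p := by
      rw [← hker, Subgroup.index_ker, ← h]
      exact Subgroup.card_subgroup_dvd_card _
    have hne : A.index ≠ 1 := by
      intro h1
      apply hx
      rw [Subgroup.mem_center_iff]
      intro g
      have := (Subgroup.index_eq_one.mp h1) ▸ Subgroup.mem_top g
      exact Subgroup.mem_centralizer_singleton_iff.mp this
    have hidx : A.index = p := ((Nat.dvd_prime hprime).mp hdvd).resolve_left hne
    have hnorm : A.Normal := by rw [← hker]; infer_instance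
    refine ⟨A, hnorm, ?_, hidx⟩
    have hZA : Subgroup.center P ≤ A := Subgroup.center_le_centralizer _
    have hxA : x ∈ A := Subgroup.mem_centralizer_singleton_iff.mpr rfl
    -- the centre of A contains Z and x
    have hZle : (Subgroup.center A).map A.subtype ≥ Subgroup.center P ⊔ Subgroup.zpowers x := by
      refine sup_le (fun z hz => ?_) ?_
      · refine ⟨⟨z, hZA hz⟩, ?_, rfl⟩
        rw [SetLike.mem_coe, Subgroup.mem_center_iff]
        exact fun g => Subtype.ext (Subgroup.mem_center_iff.mp hz (g : P))
      · rw [Subgroup.zpowers_le]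
        refine ⟨⟨x, hxA⟩, ?_, rfl⟩
        rw [SetLike.mem_coe, Subgroup.mem_center_iff]
        exact fun g => Subtype.ext (Subgroup.mem_centralizer_singleton_iff.mp g.2)
    have h1 := hgen _ (le_sup_left.trans hZle) (hZle (le_sup_right (α := Subgroup P)
      (Subgroup.mem_zpowers x)))
    rw [Subgroup.card_map_of_injective A.subtype_injective] at h1
    have hZp : p ∣ Nat.card (Subgroup.center P) := by
      rw [← h]; exact Subgroup.card_dvd_of_le hcen
    have h2 : p ^ 2 ∣ Nat.card (Subgroup.center A) := by
      rw [pow_two]; exact (Nat.mul_dvd_mul_left p hZp).trans h1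
    have hAc : Nat.card A = p ^ 3 := by
      have h3 := Subgroup.index_mul_card A
      rw [hidx, hP] at h3
      apply Nat.eq_of_mul_eq_mul_left hprime.pos
      rw [h3]; ring
    have hdv : (Subgroup.center A).index ∣ p := by
      obtain ⟨c, hc⟩ := h2
      have h3 := Subgroup.index_mul_card (Subgroup.center A)
      rw [hc, hAc] at h3
      refine ⟨c, ?_⟩
      apply Nat.eq_of_mul_eq_mul_left (pow_pos hprime.pos 2)
      rw [← pow_succ]
      show p ^ 3 = _
      rw [← h3]; ring
    have := isMulCommutative_of_center_index (G := A) (by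
      rcases (Nat.dvd_prime hprime).mp hdv with h4 | h4
      · exact Or.inl h4
      · exact Or.inr (by rw [h4]; exact hprime))
    intro a ha b hb
    have h5 : (⟨b, hb⟩ : A) ∈ Subgroup.center A := this ▸ Subgroup.mem_top _
    exact congrArg Subtype.val (Subgroup.mem_center_iff.mp h5 ⟨a, ha⟩)

theorem card_commutator_mul_card_center (hP : Nat.card P = p ^ 4) (hna : Subgroup.center P ≠ ⊤)
    (h : Nat.card (Subgroup.center P) = p ^ 2 ∨ Nat.card (commutator P) = p) :
    Nat.card (commutator P) * Nat.card (Subgroup.center P) = p ^ 3 := by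
  have hprime : p.Prime := Fact.out
  obtain ⟨A, hAn, hab, hidx⟩ := exists_abelian_index_prime hP hna h
  obtain ⟨x, hx⟩ : ∃ x, x ∉ A := by
    by_contra hh
    push Not at hh
    have : A = ⊤ := eq_top_iff.mpr fun x _ => hh x
    rw [this, Subgroup.index_top] at hidx
    exact hprime.one_lt.ne hidx
  rw [center_eq_inf_centralizer A hab (hidx ▸ hprime) x hx hna,
    card_commutator_mul_card_centralizer A hab (hidx ▸ hprime) x hx]
  have h3 := Subgroup.index_mul_card A
  rw [hidx, hP] at h3
  apply Nat.eq_of_mul_eq_mul_left hprime.pos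
  rw [h3]; ring

theorem center_index_eq_sq_iff (hP : Nat.card P = p ^ 4) :
    (Subgroup.center P).index = p ^ 2 ↔ Nat.card (Subgroup.center P) = p ^ 2 := by
  have hprime : p.Prime := Fact.out
  have h := Subgroup.index_mul_card (Subgroup.center P)
  rw [hP] at h
  constructor <;> intro h1
  · rw [h1] at h
    apply Nat.eq_of_mul_eq_mul_left (pow_pos hprime.pos 2)
    rw [h]; ring
  · rw [h1] at h
    apply Nat.eq_of_mul_eq_mul_right (pow_pos hprime.pos 2)
    rw [h]; ring

theorem card_commutator_eq_prime_iff (hP : Nat.card P = p ^ 4) :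
    Nat.card (commutator P) = p ↔ (Subgroup.center P).index = p ^ 2 := by
  have hprime : p.Prime := Fact.out
  rw [center_index_eq_sq_iff hP]
  by_cases hna : Subgroup.center P = ⊤
  · have hc : commutator P = ⊥ := (commutator_eq_bot_iff_center_eq_top (G := P)).mpr hna
    have h2 : Nat.card (Subgroup.center P) = p ^ 4 := by rw [hna, Subgroup.card_top, hP]
    rw [hc, Subgroup.card_bot, h2]
    constructor
    · intro h
      exact absurd h hprime.one_lt.ne
    · intro h
      have := Nat.pow_right_injective hprime.two_le h
      omega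
  · constructor
    · intro h
      have := card_commutator_mul_card_center hP hna (Or.inr h)
      rw [h, pow_succ' p 2] at this
      exact Nat.eq_of_mul_eq_mul_left hprime.pos this
    · intro h
      have := card_commutator_mul_card_center hP hna (Or.inl h)
      rw [h, pow_succ' p 2] at this
      exact Nat.eq_of_mul_eq_mul_right (pow_pos hprime.pos 2) this

theorem center_eq_top_of_index_commutator_prime (hP : IsPGroup p P)
    (h : (commutator P).index = p) : Subgroup.center P = ⊤ := by
  have hprime : p.Prime := Fact.out
  have hnil : Group.IsNilpotent P := hP.isNilpotent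
  have hfr : commutator P ≤ frattini P := by
    refine le_iInf₂ fun M hM => ?_
    have hMn : M.Normal :=
      Subgroup.NormalizerCondition.normal_of_coatom M Group.normalizerCondition_of_isNilpotent hM
    have hab : ∀ a b : P ⧸ M, a * b = b * a := by
      have hs : IsSimpleGroup (P ⧸ M) := by
        refine { exists_pair_ne := ?_, eq_bot_or_eq_top_of_normal := ?_ }
        · have : Nontrivial (P ⧸ M) := QuotientGroup.nontrivial_iff.mpr hM.1
          exact exists_pair_ne _
        · intro H _
          rcases hM.le_iff.mp (QuotientGroup.le_comap_mk' M H) with h1 | h1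
          · right
            rw [← Subgroup.map_comap_eq_self_of_surjective (QuotientGroup.mk'_surjective M) H, h1,
              Subgroup.map_top_of_surjective _ (QuotientGroup.mk'_surjective M)]
          · left
            rw [← Subgroup.map_comap_eq_self_of_surjective (QuotientGroup.mk'_surjective M) H, h1,
              QuotientGroup.map_mk'_self]
      have : Nontrivial (P ⧸ M) := hs.toNontrivial
      have hc := (hP.to_quotient M).bot_lt_center
      rcases hs.eq_bot_or_eq_top_of_normal (Subgroup.center (P ⧸ M)) inferInstance with h1 | h1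
      · exact absurd h1 hc.ne'
      · intro a b
        exact (Subgroup.mem_center_iff.mp (h1 ▸ Subgroup.mem_top b) a)
    rw [commutator_def, Subgroup.commutator_le]
    intro a _ b _
    rw [← QuotientGroup.eq_one_iff]
    change QuotientGroup.mk' M ⁅a, b⁆ = 1
    rw [map_commutatorElement, commutatorElement_eq_one_iff_commute]
    exact hab _ _
  -- the derived subgroup is a maximal subgroup, so any outside element generates
  obtain ⟨x, hx⟩ : ∃ x, x ∉ commutator P := by
    by_contra hh
    push Not at hh
    have : commutator P = ⊤ := eq_top_iff.mpr fun x _ => hh x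
    rw [this, Subgroup.index_top] at h
    exact hprime.one_lt.ne h
  have h1 : Subgroup.zpowers x ⊔ commutator P = ⊤ :=
    eq_top_of_prime_index (h ▸ hprime) le_sup_right
      (le_sup_left (α := Subgroup P) (Subgroup.mem_zpowers x)) hx
  have h2 : Subgroup.zpowers x = ⊤ := frattini_nongenerating
    (eq_top_iff.mpr (h1 ▸ sup_le_sup_left hfr _))
  rw [eq_top_iff]
  intro g _
  rw [Subgroup.mem_center_iff]
  intro k
  obtain ⟨i, rfl⟩ := Subgroup.mem_zpowers_iff.mp (h2 ▸ Subgroup.mem_top g)
  obtain ⟨j, rfl⟩ := Subgroup.mem_zpowers_iff.mp (h2 ▸ Subgroup.mem_top k)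
  exact zpow_mul_comm x j i

end CfsgLib.PGroupExtra
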